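import Groth.Agent.Lib.Lead.QC.LocFree3
import Groth.Agent.Lib.Lead.QC.FlatSpec
import Groth.Agent.Lib.Lead.QC.FinPres
import Mathlib.RingTheory.Flat.EquationalCriterion
universe u
open CategoryTheory Limits AlgebraicGeometry TopologicalSpace Opposite TensorProduct

namespace Groth.Agent.LD.GS
open Groth.Agent.LD.QC

theorem flat_tilde_top_iff {R : CommRingCat.{u}} (M : ModuleCat.{u} R) :
    Module.Flat R M ↔ Module.Flat Γ(Spec R, ⊤) Γ(tilde M, ⊤) := by
  have hbij : Function.Bijective (algebraMap R Γ(Spec R, ⊤)) :=
    ConcreteCategory.bijective_of_isIso (Scheme.ΓSpecIso R).inv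
  let e : R ≃+* Γ(Spec R, ⊤) := RingEquiv.ofBijective (algebraMap R Γ(Spec R, ⊤)) hbij
  let ψ := (tilde.isoTop M).toLinearEquiv
  refine flat_iff_of_ringEquiv_semilinear e ψ.toAddEquiv ?_
  intro a m
  have h1 : ψ (a • m) = a • ψ m := map_smul ψ a m
  have h2 : a • ψ m = (show Γ(tilde M, ⊤) from
      (algebraMap R Γ(Spec R, ⊤) a) • (show Γ(tilde M, ⊤) from ψ m)) := rfl
  exact h1.trans h2

theorem isFinLocFree_tilde_iff {R : CommRingCat.{u}} (M : ModuleCat.{u} R) :
    FlatMod.IsFinLocFree (tilde M) ↔ Module.Finite R M ∧ Module.Projective R M := by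
  constructor
  · intro h
    have hfp : Module.FinitePresentation R M :=
      (spec_isFinitePresentation_tilde_iff M).mp (isFinitePresentation_of_isFinLocFree _ h)
    have hfl : Module.Flat R M :=
      (flat_tilde_top_iff M).mpr
        (((isFinLocFree_iff_sections (tilde M)).mp h ⊤ (isAffineOpen_top (Spec R))).2)
    exact ⟨inferInstance, Module.Flat.projective_of_finitePresentation⟩
  · rintro ⟨hfin, hproj⟩
    haveI : Module.FinitePresentation R M := Module.finitePresentation_of_projective R M
    have hfp : (tilde M).IsFinitePresentation :=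
      (spec_isFinitePresentation_tilde_iff M).mpr inferInstance
    haveI : (tilde M).IsFiniteType := inferInstance
    have hfl : Module.Flat Γ(Spec R, ⊤) Γ(tilde M, ⊤) := (flat_tilde_top_iff M).mp inferInstance
    refine isFinLocFree_of_free_stalks (tilde M) hfp fun x => ?_
    exact free_stalk_of_flat_stalk (tilde M) inferInstance x
      (flat_stalk_of_flat_sections (tilde M) (isAffineOpen_top (Spec R)) x trivial hfl)

end Groth.Agent.LD.GS
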