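import Groth.Agent.Lib.Lead.SC.SuppDim0
import Groth.Agent.Lib.Lead.QC.AnnIdeal
import Groth.Agent.Lib.Lead.QC.GlobGenRel
import Groth.Prelude.Def_Curv2

/-! # Coherent modules with zero-dimensional support: acyclic and globally generated. -/

universe u
open CategoryTheory Limits AlgebraicGeometry TopologicalSpace Opposite

namespace Groth.Agent.LD.GS

lemma isClosed_singleton_of_dim_le_zero {Y : Type*} [TopologicalSpace Y] [T0Space Y]
    (h : topologicalKrullDim Y ≤ 0) (y : Y) : IsClosed ({y} : Set Y) := by
  have hmax := Order.krullDim_nonpos_iff_forall_isMax.mp h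
  have hcl : closure ({y} : Set Y) = {y} := by
    refine Set.Subset.antisymm ?_ subset_closure
    intro z hz
    let Z1 : IrreducibleCloseds Y :=
      ⟨closure {y}, isIrreducible_singleton.closure, isClosed_closure⟩
    let Z2 : IrreducibleCloseds Y :=
      ⟨closure {z}, isIrreducible_singleton.closure, isClosed_closure⟩
    have h21 : Z2 ≤ Z1 := by
      change closure ({z} : Set Y) ⊆ closure ({y} : Set Y)
      exact closure_minimal (Set.singleton_subset_iff.2 hz) isClosed_closure
    have h12 : Z1 ≤ Z2 := hmax Z2 h21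
    have hy : y ∈ closure ({z} : Set Y) := h12 (subset_closure (Set.mem_singleton y))
    have h1 : y ⤳ z := specializes_iff_mem_closure.2 hz
    have h2 : z ⤳ y := specializes_iff_mem_closure.2 hy
    exact (h2.antisymm h1).eq
  rw [← hcl]
  exact isClosed_closure

variable {X : Scheme.{u}}

lemma isClosed_support (F : X.Modules) [F.IsQuasicoherent] (hF : F.IsFiniteType) :
    IsClosed (CohB1.support F) := by
  have h := QC.support_annIdeal F hF
  change IsClosed {x | ¬ Subsingleton (F.presheaf.stalk x)}
  rw [← h]
  exact (QC.annIdeal F hF).support.isClosed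

lemma isClosed_point_of_support_dim (F : X.Modules) [F.IsQuasicoherent] (hF : F.IsFiniteType)
    (hsupp : topologicalKrullDim (CohB1.support F) ≤ 0) (x : X) (hx : x ∈ CohB1.support F) :
    IsClosed ({x} : Set X) := by
  have h1 : IsClosed ({(⟨x, hx⟩ : CohB1.support F)} : Set (CohB1.support F)) :=
    isClosed_singleton_of_dim_le_zero hsupp _
  have h2 := (isClosed_support F hF).isClosedEmbedding_subtypeVal.isClosedMap _ h1
  simpa using h2

theorem subsingleton_HH_of_support_dim [IsLocallyNoetherian X] (F : X.Modules)
    [F.IsQuasicoherent] (hF : F.IsFiniteType)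
    (hsupp : topologicalKrullDim (CohB1.support F) ≤ 0) (p : ℕ) :
    Subsingleton (Coh.HH X F (p + 1)) :=
  SC.subsingleton_HH_of_support_closed_points F (isClosed_support F hF)
    (fun x hx => isClosed_point_of_support_dim F hF hsupp x hx) p

theorem isGloballyGenerated_of_support_dim [IsLocallyNoetherian X] (F : X.Modules)
    [F.IsQuasicoherent] (hF : F.IsFiniteType)
    (hsupp : topologicalKrullDim (CohB1.support F) ≤ 0) :
    Curv2.IsGloballyGenerated F := by
  haveI := SC.isFlasque_of_support_closed_points F (isClosed_support F hF)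
    (fun x hx => isClosed_point_of_support_dim F hF hsupp x hx)
  refine ⟨_, QC.homOfFamily F (fun a : Γ(F, ⊤) => a), ?_⟩
  apply QC.epi_homOfFamily_of_span
  intro x U hxU
  refine ⟨U, le_rfl, hxU, ?_⟩
  rw [eq_top_iff]
  intro s _
  have hepi : Epi ((Coh.toAb F).obj.map (homOfLE (le_top : U ≤ ⊤)).op) :=
    TopCat.Presheaf.IsFlasque.epi _
  rw [AddCommGrpCat.epi_iff_surjective] at hepi
  obtain ⟨t, ht⟩ := hepi s
  apply Submodule.subset_span
  exact ⟨t, ht⟩

end Groth.Agent.LD.GS
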