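import Groth.Agent.Lib.Lead.QC.DevissageStep
import Groth.Agent.Lib.Lead.QC.QuotTorsion

/-! # Filtrations of coherent modules with quotients push-forwards of ideal sheaves (S0026). -/

set_option autoImplicit false
universe u
open CategoryTheory CategoryTheory.Limits AlgebraicGeometry TopologicalSpace

namespace Groth.Agent.LD.GS

section Abstract

variable {C : Type*} [Category C]

/-- extend an `ℕ`-indexed chain by one further object. -/
theorem extend_family [HasZeroMorphisms C] (m : ℕ) (F : ℕ → C) (φ : ∀ j, F j ⟶ F (j+1)) (M : C)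
    (g : F m ⟶ M) :
    ∃ (F' : ℕ → C) (φ' : ∀ j, F' j ⟶ F' (j+1)) (ε : ∀ j, j ≤ m → (F' j ≅ F j))
      (ε' : F' (m+1) ≅ M),
      (∀ j (h : j < m), φ' j = (ε j h.le).hom ≫ φ j ≫ (ε (j+1) h).inv) ∧
      φ' m = (ε m le_rfl).hom ≫ g ≫ ε'.inv := by
  classical
  let F' : ℕ → C := fun j => if j ≤ m then F j else M
  have e1 : ∀ j, j ≤ m → F' j = F j := fun j h => if_pos h
  have e2 : F' (m+1) = M := if_neg (by omega)
  let φ' : ∀ j, F' j ⟶ F' (j+1) := fun j =>
    if h1 : j + 1 ≤ m then eqToHom (e1 j (by omega)) ≫ φ j ≫ eqToHom (e1 (j+1) h1).symm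
    else if h2 : j = m then
      eqToHom (e1 j (by omega)) ≫ eqToHom (by rw [h2]) ≫ g ≫ eqToHom e2.symm ≫
        eqToHom (by rw [h2])
    else 0
  refine ⟨F', φ', fun j h => eqToIso (e1 j h), eqToIso e2, ?_, ?_⟩
  · intro j h
    have h1 : j + 1 ≤ m := h
    simp only [φ', dif_pos h1, eqToIso.hom, eqToIso.inv]
  · have h1 : ¬ (m + 1 ≤ m) := by omega
    simp only [φ', dif_neg h1, eqToIso.hom, eqToIso.inv, eqToHom_refl,
      Category.id_comp, Category.comp_id]
    rw [dif_pos trivial]

variable [Abelian C]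

/-- cokernel of a conjugate. -/
noncomputable def cokernelConjIso {A A' B B' : C} (a : A ≅ A') (b : B ≅ B') (f : A' ⟶ B') :
    cokernel (a.hom ≫ f ≫ b.inv) ≅ cokernel f :=
  cokernel.mapIso _ _ a b (by simp)

end Abstract

variable {X : Scheme.{u}}

/-- a piece: the direct image of a nonzero quasi-coherent ideal sheaf of an integral closed
subscheme. -/
def IsPiece (Q : X.Modules) : Prop :=
  ∃ (Z : Scheme.{u}) (i : Z ⟶ X), IsClosedImmersion i ∧ IsIntegral Z ∧
    ∃ (I : Z.Modules) (ι : I ⟶ Coh.structureModule Z), Mono ι ∧ Coh.IsQCoh I ∧ ¬ IsZero I ∧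
      Nonempty (Q ≅ (Coh.push i).obj I)

theorem IsPiece.of_iso {Q Q' : X.Modules} (e : Q ≅ Q') (h : IsPiece Q) : IsPiece Q' := by
  obtain ⟨Z, i, h1, h2, I, ι, h3, h4, h5, ⟨e'⟩⟩ := h
  exact ⟨Z, i, h1, h2, I, ι, h3, h4, h5, ⟨e.symm ≪≫ e'⟩⟩

/-- modules admitting a finite filtration with pieces as quotients. -/
inductive Chain : X.Modules → Prop
  | zero (M : X.Modules) : IsZero M → Coh.IsCoh M → Chain M
  | step (N M : X.Modules) (f : N ⟶ M) : Mono f → Chain N → Coh.IsCoh N → Coh.IsCoh M →
      IsPiece (cokernel f) → Chain M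

theorem Chain.isCoh {M : X.Modules} (h : Chain M) : Coh.IsCoh M := by
  cases h with
  | zero _ _ h => exact h
  | step _ _ _ _ _ _ h _ => exact h

theorem Chain.of_iso {M M' : X.Modules} (e : M ≅ M') (h : Chain M) : Chain M' := by
  cases h with
  | zero _ hz hc => exact Chain.zero _ (hz.of_iso e.symm) (QC.isCoh_of_iso e hc)
  | step N _ f hf hN hNc hMc hp =>
    haveI := hf
    refine Chain.step N M' (f ≫ e.hom) inferInstance hN hNc (QC.isCoh_of_iso e hMc) ?_
    exact hp.of_iso (cokernelCompIsIso f e.hom).symm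

section Ext

variable [IsLocallyNoetherian X]

/-- extension closure, by induction on the chain of the quotient. -/
theorem Chain.ext_aux {Cq : X.Modules} (hC : Chain Cq) :
    ∀ (A B : X.Modules) (f : A ⟶ B) (g : B ⟶ Cq) (w : f ≫ g = 0),
      (ShortComplex.mk f g w).ShortExact → Coh.IsCoh B → Chain A → Chain B := by
  induction hC with
  | zero Cq hz hc =>
    intro A B f g w hS hB hA
    have : IsIso f := (hS.isIso_f_iff).mpr hz
    exact hA.of_iso (asIso f)
  | step C' Cq h hh hC' hC'c hCqc hp IH =>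
    intro A B f g w hS hB hA
    haveI := hh
    haveI : Mono f := hS.mono_f
    haveI : Epi g := hS.epi_g
    let π := cokernel.π h
    let e : B ⟶ cokernel h := g ≫ π
    haveI : Epi e := epi_comp g π
    let B' := kernel e
    let ιe : B' ⟶ B := kernel.ι e
    -- `C'` is the kernel of `π`
    have hker : IsLimit (KernelFork.ofι h (cokernel.condition h)) :=
      Abelian.monoIsKernelOfCokernel (Cofork.ofπ (cokernel.π h) (by simp)) (cokernelIsCokernel h)
    have hw' : (ιe ≫ g) ≫ π = 0 := by
      rw [Category.assoc]; exact kernel.condition e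
    let g' : B' ⟶ C' := hker.lift (KernelFork.ofι (ιe ≫ g) hw')
    have hg' : g' ≫ h = ιe ≫ g := hker.fac _ WalkingParallelPair.zero
    have hfe : f ≫ e = 0 := by
      change f ≫ g ≫ π = 0
      rw [← Category.assoc, w, zero_comp]
    let f' : A ⟶ B' := kernel.lift e f hfe
    have hf' : f' ≫ ιe = f := kernel.lift_ι _ _ _
    have w' : f' ≫ g' = 0 := by
      rw [← cancel_mono h, Category.assoc, hg', ← Category.assoc, hf', w, zero_comp]
    haveI : Mono f' := mono_of_mono_fac hf'
    -- `g'` is epi : the square is a pullback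
    have hpb : IsPullback g' ιe h g := by
      refine ⟨⟨hg'⟩, ⟨PullbackCone.IsLimit.mk _ (fun s => kernel.lift e s.snd ?_) ?_ ?_ ?_⟩⟩
      · change s.snd ≫ g ≫ π = 0
        rw [← Category.assoc, ← s.condition, Category.assoc, cokernel.condition, comp_zero]
      · intro s
        rw [← cancel_mono h, Category.assoc, hg', ← Category.assoc, kernel.lift_ι, s.condition]
      · intro s
        exact kernel.lift_ι _ _ _
      · intro s m _ hm2
        rw [← cancel_mono ιe, kernel.lift_ι]
        exact hm2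
    haveI : Epi g' := Abelian.epi_fst_of_isLimit h g hpb.isLimit
    -- exactness
    have hex : (ShortComplex.mk f' g' w').Exact := by
      apply ShortComplex.exact_of_f_is_kernel
      refine KernelFork.IsLimit.ofι' f' w' (fun {T} t ht => ?_)
      have h1 : (t ≫ ιe) ≫ g = 0 := by
        rw [Category.assoc, ← hg', ← Category.assoc, ht, zero_comp]
      refine ⟨hS.fIsKernel.lift (KernelFork.ofι (t ≫ ιe) h1), ?_⟩
      rw [← cancel_mono ιe, Category.assoc, hf']
      exact hS.fIsKernel.fac _ WalkingParallelPair.zero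
    have hS' : (ShortComplex.mk f' g' w').ShortExact := { exact := hex }
    have hB'c : Coh.IsCoh B' := QC.isCoh_kernel e hB (QC.isCoh_cokernel h hC'c hCqc)
    have hB' : Chain B' := IH A B' f' g' w' hS' hB'c hA
    refine Chain.step B' B ιe inferInstance hB' hB'c hB ?_
    -- cokernel of `ιe` is `cokernel h`
    have hcok : IsColimit (CokernelCofork.ofπ e (kernel.condition e)) :=
      Abelian.epiIsCokernelOfKernel (Fork.ofι (kernel.ι e) (by simp)) (kernelIsKernel e)
    exact hp.of_iso ((cokernelIsCokernel ιe).coconePointUniqueUpToIso hcok).symm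

theorem Chain.ext (S : ShortComplex X.Modules) (hS : S.ShortExact) (h2 : Coh.IsCoh S.X₂)
    (h1 : Chain S.X₁) (h3 : Chain S.X₃) : Chain S.X₂ :=
  Chain.ext_aux h3 S.X₁ S.X₂ S.f S.g S.zero hS h2 h1

end Ext

open ZeroObject in
/-- a coherent piece has a chain. -/
theorem Chain.of_piece [IsLocallyNoetherian X] {G : X.Modules} (hG : Coh.IsCoh G) (hp : IsPiece G) :
    Chain G := by
  have hz0 : Coh.IsCoh (0 : X.Modules) := QC.isCoh_of_isZero hG (isZero_zero _)
  refine Chain.step 0 G 0 inferInstance (Chain.zero 0 (isZero_zero _) hz0) hz0 hG ?_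
  exact hp.of_iso cokernelZeroIsoTarget.symm

/-- conversion to an `ℕ`-indexed family. -/
theorem Chain.exists_family {M : X.Modules} (h : Chain M) :
    ∃ (m : ℕ) (F : ℕ → X.Modules) (φ : (j : ℕ) → (F j ⟶ F (j + 1))),
      IsZero (F 0) ∧ Nonempty (F m ≅ M) ∧ (∀ j ≤ m, Coh.IsCoh (F j)) ∧ ∀ j < m, Mono (φ j) ∧
        IsPiece (cokernel (φ j)) := by
  induction h with
  | zero M hz hc =>
    exact ⟨0, fun _ => M, fun _ => 𝟙 M, hz, ⟨Iso.refl _⟩, fun j _ => hc, fun j hj => absurd hj (by omega)⟩
  | step N M f hf hN hNc hMc hp IH =>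
    obtain ⟨m, F, φ, h0, ⟨e⟩, hcoh, hst⟩ := IH
    haveI := hf
    obtain ⟨F', φ', ε, ε', hφ1, hφ2⟩ := extend_family m F φ M (e.hom ≫ f)
    refine ⟨m + 1, F', φ', h0.of_iso (ε 0 (Nat.zero_le _)), ⟨ε'⟩, ?_, ?_⟩
    · intro j hj
      rcases Nat.lt_or_ge j (m+1) with h | h
      · exact QC.isCoh_of_iso (ε j (by omega)).symm (hcoh j (by omega))
      · have : j = m + 1 := by omega
        subst this
        exact QC.isCoh_of_iso ε'.symm hMc
    · intro j hj
      rcases Nat.lt_or_ge j m with h | h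
      · obtain ⟨hm, hq⟩ := hst j h
        haveI := hm
        rw [hφ1 j h]
        refine ⟨inferInstance, ?_⟩
        exact hq.of_iso (cokernelConjIso (ε j h.le) (ε (j+1) h) (φ j)).symm
      · have : j = m := by omega
        subst this
        rw [hφ2]
        refine ⟨inferInstance, ?_⟩
        refine hp.of_iso ?_
        exact (cokernelEpiComp e.hom f).symm ≪≫
          (cokernelConjIso (ε j le_rfl) ε' (e.hom ≫ f)).symm

end Groth.Agent.LD.GS
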